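import Cfsg.Prelude.Def_Sporadic_a
import Mathlib

/-!
# Counting in Steiner systems

`lam t k B S` : number of blocks through `S`; the number depends only on `|S|`.
`sum_choose_block` : `∑_{c ∈ B} C(|c ∩ Y|, j) = C(|Y|, j) · λ_j`.
`Nfib` : number of blocks meeting `Y` in exactly `i` points, and the moment equations in
terms of `Nfib`.
-/

set_option autoImplicit false

namespace Cfsg.Agent.Lib.Steiner

open Finset Cfsg

variable {α : Type*} [Fintype α] [DecidableEq α]

/-- The blocks as a finset. -/
noncomputable def blocks (B : Set (Finset α)) : Finset (Finset α) :=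
  by classical exact (Set.toFinite B).toFinset

@[simp] theorem mem_blocks {B : Set (Finset α)} {c : Finset α} : c ∈ blocks B ↔ c ∈ B := by
  simp [blocks]

theorem ncard_eq_card_blocks (B : Set (Finset α)) : B.ncard = (blocks B).card := by
  rw [Set.ncard_eq_toFinset_card B (Set.toFinite B)]
  rfl

/-- Number of `k`-subsets of `U` containing `S`. -/
theorem card_superset (S U : Finset α) (hSU : S ⊆ U) (k : ℕ) (hk : S.card ≤ k) :
    ((U.powersetCard k).filter (fun T => S ⊆ T)).card = (U.card - S.card).choose (k - S.card) := by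
  have h1 : (U \ S).card = U.card - S.card := card_sdiff_of_subset hSU
  rw [← h1, ← card_powersetCard]
  apply Finset.card_nbij' (fun T => T \ S) (fun T => T ∪ S)
  · intro T hT
    simp only [coe_filter, mem_powersetCard, Set.mem_ofPred_eq] at hT
    simp only [mem_coe, mem_powersetCard]
    obtain ⟨⟨hTU, hTk⟩, hST⟩ := hT
    constructor
    · exact sdiff_subset_sdiff hTU (le_refl _)
    · rw [card_sdiff_of_subset hST, hTk]
  · intro T hT
    simp only [mem_coe, mem_powersetCard] at hT
    simp only [coe_filter, mem_powersetCard, Set.mem_ofPred_eq]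
    obtain ⟨hTU, hTk⟩ := hT
    have hd : Disjoint T S := by
      rw [Finset.disjoint_left]
      intro x hx hxS
      have := hTU hx
      rw [mem_sdiff] at this
      exact this.2 hxS
    refine ⟨⟨?_, ?_⟩, subset_union_right⟩
    · exact union_subset (hTU.trans sdiff_subset) hSU
    · rw [card_union_of_disjoint hd, hTk]; omega
  · intro T hT
    simp only [coe_filter, mem_powersetCard, Set.mem_ofPred_eq] at hT
    exact sdiff_union_of_subset hT.2
  · intro T hT
    simp only [mem_coe, mem_powersetCard] at hT
    have hd : Disjoint T S := by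
      rw [Finset.disjoint_left]
      intro x hx hxS
      have := hT.1 hx
      rw [mem_sdiff] at this
      exact this.2 hxS
    exact union_sdiff_cancel_right hd

/-- Double counting: the number of blocks through a set `S`, `|S| ≤ t`. -/
theorem lambda_eq {t k : ℕ} {B : Set (Finset α)} (hB : IsSteinerSystem t k B) (S : Finset α)
    (hS : S.card ≤ t) :
    ((blocks B).filter (fun b => S ⊆ b)).card * (k - S.card).choose (t - S.card) =
      (Fintype.card α - S.card).choose (t - S.card) := by
  classical
  have key := Finset.sum_card_bipartiteAbove_eq_sum_card_bipartiteBelow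
    (s := ((univ : Finset α).powersetCard t).filter (fun T => S ⊆ T))
    (t := (blocks B).filter (fun b => S ⊆ b)) (fun T b => T ⊆ b)
  have hL : ∀ T ∈ ((univ : Finset α).powersetCard t).filter (fun T => S ⊆ T),
      (Finset.bipartiteAbove (fun T b => T ⊆ b) ((blocks B).filter (fun b => S ⊆ b)) T).card = 1 := by
    intro T hT
    simp only [mem_filter, mem_powersetCard] at hT
    obtain ⟨b, ⟨hb, hTb⟩, huniq⟩ := hB.2 T hT.1.2
    rw [Finset.card_eq_one]
    refine ⟨b, ?_⟩
    ext c
    simp only [bipartiteAbove, mem_filter, mem_singleton, mem_blocks]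
    constructor
    · rintro ⟨⟨hc, -⟩, hTc⟩
      exact huniq c ⟨hc, hTc⟩
    · rintro rfl
      exact ⟨⟨hb, hT.2.trans hTb⟩, hTb⟩
  have hR : ∀ b ∈ (blocks B).filter (fun b => S ⊆ b),
      (Finset.bipartiteBelow (fun T b => T ⊆ b)
        (((univ : Finset α).powersetCard t).filter (fun T => S ⊆ T)) b).card =
      (k - S.card).choose (t - S.card) := by
    intro b hb
    simp only [mem_filter, mem_blocks] at hb
    have : Finset.bipartiteBelow (fun T b => T ⊆ b)
        (((univ : Finset α).powersetCard t).filter (fun T => S ⊆ T)) b =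
        (b.powersetCard t).filter (fun T => S ⊆ T) := by
      ext T
      simp only [bipartiteBelow, mem_filter, mem_powersetCard, subset_univ, true_and]
      tauto
    rw [this, card_superset S b hb.2 t hS, hB.1 b hb.1]
  rw [Finset.sum_congr rfl hL, Finset.sum_congr rfl hR] at key
  simp only [sum_const, smul_eq_mul, mul_one] at key
  rw [← key]
  have := card_superset S (univ : Finset α) (subset_univ S) t hS
  rw [card_univ] at this
  exact this

/-- `∑_b C(|b ∩ Y|, j) = ∑_{P ⊆ Y, |P| = j} #{b ⊇ P}`. -/
theorem sum_choose_inter (F : Finset (Finset α)) (Y : Finset α) (j : ℕ) :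
    ∑ b ∈ F, ((b ∩ Y).card).choose j =
      ∑ P ∈ Y.powersetCard j, (F.filter (fun b => P ⊆ b)).card := by
  classical
  have key := Finset.sum_card_bipartiteAbove_eq_sum_card_bipartiteBelow
    (s := F) (t := Y.powersetCard j) (fun b P => P ⊆ b)
  have hL : ∀ b ∈ F, (Finset.bipartiteAbove (fun b P => P ⊆ b) (Y.powersetCard j) b).card =
      ((b ∩ Y).card).choose j := by
    intro b _
    have : Finset.bipartiteAbove (fun b P => P ⊆ b) (Y.powersetCard j) b = (b ∩ Y).powersetCard j := by
      ext P
      simp only [bipartiteAbove, mem_filter, mem_powersetCard, subset_inter_iff]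
      tauto
    rw [this, card_powersetCard]
  rw [Finset.sum_congr rfl hL] at key
  rw [key]
  rfl

/-- Number of blocks meeting `Y` in exactly `i` points. -/
noncomputable def nfib (B : Set (Finset α)) (Y : Finset α) (i : ℕ) : ℕ :=
  ((blocks B).filter (fun c => (c ∩ Y).card = i)).card

/-- Moment equation: if `λ` is the number of blocks through any `j`-set (with
`λ · C(k-j, t-j) = C(v-j, t-j)`), then `∑_i n_i C(i,j) = C(|Y|, j) λ`. -/
theorem moment {t k : ℕ} {B : Set (Finset α)} (hB : IsSteinerSystem t k B) (Y : Finset α) (j l : ℕ)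
    (hj : j ≤ t) (hc : 0 < (k - j).choose (t - j))
    (hl : l * (k - j).choose (t - j) = (Fintype.card α - j).choose (t - j)) :
    ∑ i ∈ range (k + 1), nfib B Y i * i.choose j = Y.card.choose j * l := by
  classical
  have h1 : ∑ b ∈ blocks B, ((b ∩ Y).card).choose j = Y.card.choose j * l := by
    rw [sum_choose_inter]
    have : ∀ P ∈ Y.powersetCard j, ((blocks B).filter (fun b => P ⊆ b)).card = l := by
      intro P hP
      rw [mem_powersetCard] at hP
      have h := lambda_eq hB P (by omega)
      rw [hP.2] at h
      exact Nat.eq_of_mul_eq_mul_right hc (h.trans hl.symm)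
    rw [Finset.sum_congr rfl this, sum_const, smul_eq_mul, card_powersetCard]
  rw [← h1]
  have hm : ∀ b ∈ blocks B, (b ∩ Y).card ∈ range (k + 1) := by
    intro b hb
    rw [mem_blocks] at hb
    rw [mem_range]
    have := card_le_card (inter_subset_left : b ∩ Y ⊆ b)
    rw [hB.1 b hb] at this
    omega
  rw [← Finset.sum_fiberwise_of_maps_to hm]
  apply Finset.sum_congr rfl
  intro i _
  rw [nfib, Finset.sum_congr rfl (g := fun _ => i.choose j), sum_const, smul_eq_mul]
  intro b hb
  rw [mem_filter] at hb
  rw [hb.2]

/-- Two blocks sharing at least `t` points are equal. -/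
theorem eq_of_inter {t k : ℕ} {B : Set (Finset α)} (hB : IsSteinerSystem t k B) {b c : Finset α}
    (hb : b ∈ B) (hc : c ∈ B) (h : t ≤ (b ∩ c).card) : b = c := by
  obtain ⟨s, hs, hsc⟩ := Finset.exists_subset_card_eq h
  obtain ⟨e, -, hu⟩ := hB.2 s hsc
  have h1 := hu b ⟨hb, hs.trans inter_subset_left⟩
  have h2 := hu c ⟨hc, hs.trans inter_subset_right⟩
  rw [h1, h2]

/-- For a block `b`, there is exactly one block meeting it in `k` points: itself. -/
theorem nfib_self {t k : ℕ} {B : Set (Finset α)} (hB : IsSteinerSystem t k B) (htk : t ≤ k)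
    {b : Finset α} (hb : b ∈ B) : nfib B b k = 1 := by
  classical
  have hbk := hB.1 b hb
  rw [nfib, Finset.card_eq_one]
  refine ⟨b, ?_⟩
  ext c
  simp only [mem_filter, mem_blocks, mem_singleton]
  constructor
  · rintro ⟨hc, hi⟩
    exact eq_of_inter hB hc hb (by omega)
  · rintro rfl
    refine ⟨hb, ?_⟩
    rw [inter_self, hbk]

/-- There is no block meeting `b` in `i` points when `t ≤ i < k`. -/
theorem nfib_large {t k : ℕ} {B : Set (Finset α)} (hB : IsSteinerSystem t k B) {b : Finset α}
    (hb : b ∈ B) {i : ℕ} (h1 : t ≤ i) (h2 : i < k) : nfib B b i = 0 := by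
  classical
  have hbk := hB.1 b hb
  rw [nfib, Finset.card_eq_zero, Finset.filter_eq_empty_iff]
  intro c hc hi
  rw [mem_blocks] at hc
  have := eq_of_inter hB hc hb (by omega)
  subst this
  rw [inter_self, hbk] at hi
  omega

/-- If no block meets `Y` in `i` points then no block has that intersection. -/
theorem not_of_nfib_zero {B : Set (Finset α)} {Y : Finset α} {i : ℕ} (h : nfib B Y i = 0)
    {c : Finset α} (hc : c ∈ B) : (c ∩ Y).card ≠ i := by
  classical
  rw [nfib, Finset.card_eq_zero, Finset.filter_eq_empty_iff] at h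
  exact h (mem_blocks.2 hc)

/-- A block's intersection with a set is at most `k`. -/
theorem card_inter_le {t k : ℕ} {B : Set (Finset α)} (hB : IsSteinerSystem t k B) {c : Finset α}
    (hc : c ∈ B) (Y : Finset α) : (c ∩ Y).card ≤ k := by
  have := card_le_card (inter_subset_left : c ∩ Y ⊆ c)
  rwa [hB.1 c hc] at this

end Cfsg.Agent.Lib.Steiner
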