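import Cfsg.Agent.Lib.Steiner.Count

/-!
# Intersection numbers of the small Steiner systems
-/

set_option autoImplicit false

namespace Cfsg.Agent.Lib.Steiner

open Finset Cfsg

variable {α : Type*} [Fintype α] [DecidableEq α]

/-- Intersection numbers of S(5,8,24). -/
theorem nfib_5_8_24 (hα : Fintype.card α = 24) {B : Set (Finset α)} (hB : IsSteinerSystem 5 8 B)
    {b : Finset α} (hb : b ∈ B) :
    nfib B b 0 = 30 ∧ nfib B b 1 = 0 ∧ nfib B b 2 = 448 ∧ nfib B b 3 = 0 ∧ nfib B b 4 = 280 ∧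
      nfib B b 5 = 0 ∧ nfib B b 6 = 0 ∧ nfib B b 7 = 0 ∧ nfib B b 8 = 1 := by
  have hc := hB.1 b hb
  have h8 := nfib_self hB (by norm_num) hb
  have h5 := nfib_large hB hb (i := 5) (by norm_num) (by norm_num)
  have h6 := nfib_large hB hb (i := 6) (by norm_num) (by norm_num)
  have h7 := nfib_large hB hb (i := 7) (by norm_num) (by norm_num)
  have m0 := moment hB b 0 759 (by norm_num) (by decide) (by rw [hα]; decide)
  have m1 := moment hB b 1 253 (by norm_num) (by decide) (by rw [hα]; decide)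
  have m2 := moment hB b 2 77 (by norm_num) (by decide) (by rw [hα]; decide)
  have m3 := moment hB b 3 21 (by norm_num) (by decide) (by rw [hα]; decide)
  have m4 := moment hB b 4 5 (by norm_num) (by decide) (by rw [hα]; decide)
  rw [hc] at m0 m1 m2 m3 m4
  simp only [sum_range_succ, sum_range_zero, h5, h6, h7, h8] at m0 m1 m2 m3 m4
  norm_num [Nat.choose] at m0 m1 m2 m3 m4
  refine ⟨?_, ?_, ?_, ?_, ?_, h5, h6, h7, h8⟩ <;> omega

/-- Intersection numbers of S(4,7,23). -/
theorem nfib_4_7_23 (hα : Fintype.card α = 23) {B : Set (Finset α)} (hB : IsSteinerSystem 4 7 B)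
    {b : Finset α} (hb : b ∈ B) :
    nfib B b 0 = 0 ∧ nfib B b 1 = 112 ∧ nfib B b 2 = 0 ∧ nfib B b 3 = 140 ∧ nfib B b 4 = 0 ∧
      nfib B b 5 = 0 ∧ nfib B b 6 = 0 ∧ nfib B b 7 = 1 := by
  have hc := hB.1 b hb
  have h7 := nfib_self hB (by norm_num) hb
  have h4 := nfib_large hB hb (i := 4) (by norm_num) (by norm_num)
  have h5 := nfib_large hB hb (i := 5) (by norm_num) (by norm_num)
  have h6 := nfib_large hB hb (i := 6) (by norm_num) (by norm_num)
  have m0 := moment hB b 0 253 (by norm_num) (by decide) (by rw [hα]; decide)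
  have m1 := moment hB b 1 77 (by norm_num) (by decide) (by rw [hα]; decide)
  have m2 := moment hB b 2 21 (by norm_num) (by decide) (by rw [hα]; decide)
  have m3 := moment hB b 3 5 (by norm_num) (by decide) (by rw [hα]; decide)
  rw [hc] at m0 m1 m2 m3
  simp only [sum_range_succ, sum_range_zero, h4, h5, h6, h7] at m0 m1 m2 m3
  norm_num [Nat.choose] at m0 m1 m2 m3
  refine ⟨?_, ?_, ?_, ?_, h4, h5, h6, h7⟩ <;> omega

/-- Intersection numbers of S(3,6,22). -/
theorem nfib_3_6_22 (hα : Fintype.card α = 22) {B : Set (Finset α)} (hB : IsSteinerSystem 3 6 B)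
    {b : Finset α} (hb : b ∈ B) :
    nfib B b 0 = 16 ∧ nfib B b 1 = 0 ∧ nfib B b 2 = 60 ∧ nfib B b 3 = 0 ∧ nfib B b 4 = 0 ∧
      nfib B b 5 = 0 ∧ nfib B b 6 = 1 := by
  have hc := hB.1 b hb
  have h6 := nfib_self hB (by norm_num) hb
  have h3 := nfib_large hB hb (i := 3) (by norm_num) (by norm_num)
  have h4 := nfib_large hB hb (i := 4) (by norm_num) (by norm_num)
  have h5 := nfib_large hB hb (i := 5) (by norm_num) (by norm_num)
  have m0 := moment hB b 0 77 (by norm_num) (by decide) (by rw [hα]; decide)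
  have m1 := moment hB b 1 21 (by norm_num) (by decide) (by rw [hα]; decide)
  have m2 := moment hB b 2 5 (by norm_num) (by decide) (by rw [hα]; decide)
  rw [hc] at m0 m1 m2
  simp only [sum_range_succ, sum_range_zero, h3, h4, h5, h6] at m0 m1 m2
  norm_num [Nat.choose] at m0 m1 m2
  refine ⟨?_, ?_, ?_, h3, h4, h5, h6⟩ <;> omega

/-- Intersection numbers of S(5,6,12). -/
theorem nfib_5_6_12 (hα : Fintype.card α = 12) {B : Set (Finset α)} (hB : IsSteinerSystem 5 6 B)
    {b : Finset α} (hb : b ∈ B) :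
    nfib B b 0 = 1 ∧ nfib B b 1 = 0 ∧ nfib B b 2 = 45 ∧ nfib B b 3 = 40 ∧ nfib B b 4 = 45 ∧
      nfib B b 5 = 0 ∧ nfib B b 6 = 1 := by
  have hc := hB.1 b hb
  have h6 := nfib_self hB (by norm_num) hb
  have h5 := nfib_large hB hb (i := 5) (by norm_num) (by norm_num)
  have m0 := moment hB b 0 132 (by norm_num) (by decide) (by rw [hα]; decide)
  have m1 := moment hB b 1 66 (by norm_num) (by decide) (by rw [hα]; decide)
  have m2 := moment hB b 2 30 (by norm_num) (by decide) (by rw [hα]; decide)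
  have m3 := moment hB b 3 12 (by norm_num) (by decide) (by rw [hα]; decide)
  have m4 := moment hB b 4 4 (by norm_num) (by decide) (by rw [hα]; decide)
  rw [hc] at m0 m1 m2 m3 m4
  simp only [sum_range_succ, sum_range_zero, h5, h6] at m0 m1 m2 m3 m4
  norm_num [Nat.choose] at m0 m1 m2 m3 m4
  refine ⟨?_, ?_, ?_, ?_, ?_, h5, h6⟩ <;> omega

/-- Intersection numbers of S(3,4,8). -/
theorem nfib_3_4_8 (hα : Fintype.card α = 8) {B : Set (Finset α)} (hB : IsSteinerSystem 3 4 B)
    {b : Finset α} (hb : b ∈ B) :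
    nfib B b 0 = 1 ∧ nfib B b 1 = 0 ∧ nfib B b 2 = 12 ∧ nfib B b 3 = 0 ∧ nfib B b 4 = 1 := by
  have hc := hB.1 b hb
  have h4 := nfib_self hB (by norm_num) hb
  have h3 := nfib_large hB hb (i := 3) (by norm_num) (by norm_num)
  have m0 := moment hB b 0 14 (by norm_num) (by decide) (by rw [hα]; decide)
  have m1 := moment hB b 1 7 (by norm_num) (by decide) (by rw [hα]; decide)
  have m2 := moment hB b 2 3 (by norm_num) (by decide) (by rw [hα]; decide)
  rw [hc] at m0 m1 m2
  simp only [sum_range_succ, sum_range_zero, h3, h4] at m0 m1 m2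
  norm_num [Nat.choose] at m0 m1 m2
  refine ⟨?_, ?_, ?_, h3, h4⟩ <;> omega

/-- If exactly one block is disjoint from a block of size `k`, where the ground set has `2k`
points, then it is the complement. -/
theorem compl_mem_of_nfib_zero {k t : ℕ} (hα : Fintype.card α = 2 * k) {B : Set (Finset α)}
    (hB : IsSteinerSystem t k B) {b : Finset α} (hb : b ∈ B) (h : nfib B b 0 = 1) : bᶜ ∈ B := by
  classical
  rw [nfib, Finset.card_eq_one] at h
  obtain ⟨c, hc⟩ := h
  have hcm : c ∈ (blocks B).filter (fun c => (c ∩ b).card = 0) := by rw [hc]; exact mem_singleton_self c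
  rw [mem_filter, mem_blocks, card_eq_zero] at hcm
  have hcb : c ⊆ bᶜ := by
    intro x hx
    rw [mem_compl]
    intro hxb
    have : x ∈ c ∩ b := mem_inter.2 ⟨hx, hxb⟩
    rw [hcm.2] at this
    exact absurd this (notMem_empty x)
  have hcard : bᶜ.card = c.card := by
    rw [card_compl, hB.1 b hb, hB.1 c hcm.1, hα]; omega
  have : c = bᶜ := Finset.eq_of_subset_of_card_le hcb hcard.le
  rw [← this]
  exact hcm.1

end Cfsg.Agent.Lib.Steiner
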