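import Cfsg.Agent.Lib.Steiner.HSAbs
import Cfsg.Agent.Lib.Steiner.U22
import Cfsg.Agent.Lib.Compute.Orbit

/-!
# Numeric data for the point-block graph of the S(3,6,22): the adjacency and three automorphisms
-/

set_option autoImplicit false
set_option maxRecDepth 1000000

namespace Cfsg.Agent.Lib.Steiner.HS

open Cfsg Equiv Cfsg.Agent.Lib.Compute

/-- The block masks, packed. -/
def mkP : ℕ := 825627881227876725166775707738856673244122175697577279537835449233979866956979008860732459550618579754098292439455318536928991556736696341044637780132801403580828061226711528681096006366955221499578813912797811857732116231775988608447515743439870347770938015031954005235729405295186045723367606937298139199899819571432026534201920797351833602412047882020712040893430715941870328879926515897508604296656662243783863481580333201718216325264556705720588856126204613844258834227580379921762298015075945537377140799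

/-- The `j`-th block mask. -/
def nmk (j : ℕ) : ℕ := pget 22 4194303 mkP j

theorem nmk_spec : allBelow (fun j => Nat.beq (nmk j) (U22.blocks0.getD j 0)) 77 = true := by decide +kernel

/-- Numeric form of `pointBlockRel`. -/
def nrel (i j : ℕ) : Bool :=
  bcond (Nat.beq i 0) (Nat.blt 0 j && Nat.blt j 23)
    (bcond (Nat.blt i 23) (Nat.ble 23 j && tb (nmk (Nat.sub j 23)) (Nat.sub i 1))
      (Nat.ble 23 j && Nat.beq (Nat.land (nmk (Nat.sub i 23)) (nmk (Nat.sub j 23))) 0))

/-- Numeric form of the adjacency. -/
def nadj (i j : ℕ) : Bool := !(Nat.beq i j) && (nrel i j || nrel j i)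

/-- Packed permutations of the vertices. -/
def pc (p i : ℕ) : ℕ := pget 7 127 p i

/-- The automorphism check. -/
noncomputable def checkAut (p : ℕ) : Bool :=
  checkPerm 100 (pc p) &&
    allBelow (fun i => allBelow (fun j => bcond (nadj i j) (nadj (pc p i) (pc p j)) (!(nadj (pc p i) (pc p j)))) 100) 100

def gP : ℕ := 266216692683381679069586629509833639661778445618821424236959999953412462956524547907616783938502971717120004192382340444529021815641059274191344226025013004387417328672296805033628402657422905128311136868220929
def tauP : ℕ := 4094591481234650534104343475986558987785537488548955451026170565030491429945133851003256916563174060395431368213439684336070656804401157775921939558219831684308407851241832173840801580606866824448488178960384128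
def cP : ℕ := 3021626886309081050502461813375962826697556051307440248503325027498049086076405272218692640801601792030860193678214677438953691526264196148703993337083222839155496108859173420488974016143823077476947998112123264

theorem gP_aut : checkAut gP = true := by decide +kernel
theorem tauP_aut : checkAut tauP = true := by decide +kernel
theorem cP_aut : checkAut cP = true := by decide +kernel

/-- The generators. -/
def gens (k : ℕ) : ℕ := bcond (Nat.beq k 0) gP (bcond (Nat.beq k 1) tauP cP)

theorem gens_aut (k : ℕ) : checkAut (gens k) = true := by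
  unfold gens
  cases Nat.beq k 0
  · cases Nat.beq k 1
    · exact cP_aut
    · exact tauP_aut
  · exact gP_aut

/-- The orbit tree. -/
def tree : List (ℕ × ℕ) := [(0, 0), (2, 1), (0, 19), (2, 19), (2, 43), (0, 9), (1, 9), (0, 45), (1, 45), (2, 45), (1, 63), (2, 63), (0, 12), (2, 12), (2, 15), (0, 50), (2, 50), (0, 60), (2, 60), (0, 42), (2, 42), (0, 47), (1, 47), (2, 47), (0, 4), (2, 4), (1, 13), (0, 49), (1, 49), (2, 49), (1, 84), (1, 5), (2, 5), (0, 59), (1, 59), (2, 59), (1, 77), (2, 77), (0, 74), (2, 74), (0, 24), (1, 24), (1, 29), (2, 29), (0, 6), (1, 6), (2, 6), (1, 94), (2, 94), (0, 71), (2, 71), (2, 26), (0, 96), (2, 96), (0, 10), (0, 14), (2, 14), (2, 69), (0, 62), (2, 62), (0, 36), (1, 36), (0, 58), (2, 58), (0, 93), (2, 81), (0, 55), (1, 55), (2, 3), (2, 68), (0, 70), (2, 70), (0, 88), (2, 99), (0, 16), (2, 16), (0, 91), (1, 78), (2, 78), (1, 34), (0, 39), (0, 98), (2, 98), (1, 65), (0, 22), (1, 41), (2, 41), (2, 28), (1, 31), (2, 92), (2, 90), (1, 76), (1, 7), (0, 89), (1, 75), (2, 73), (1, 72), (1, 32), (2, 37)]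

theorem tree_full : treeRun (fun k i => pc (gens k) i) tree 1 = 1267650600228229401496703205375 := by decide +kernel

def tauSwaps : List (ℕ × ℕ) := [(2, 21), (3, 16), (5, 10), (6, 11), (7, 17), (9, 12), (13, 18), (23, 65), (24, 68), (25, 34), (27, 41), (28, 39), (29, 70), (30, 36), (31, 33), (32, 37), (42, 63), (44, 73), (45, 50), (46, 72), (47, 74), (49, 71), (51, 78), (53, 76), (54, 55), (56, 75), (58, 77), (59, 62), (79, 97), (81, 98), (83, 85), (84, 96), (86, 95), (87, 89), (91, 94)]

theorem tau_swaps_ok : allSw (fun p => (Nat.blt p.1 100 && Nat.blt p.2 100) && !Nat.beq p.1 p.2) tauSwaps = true := by decide +kernel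
theorem tau_swaps : allBelow (fun i => Nat.beq (pc tauP i) (applySwaps tauSwaps i)) 100 = true := by decide +kernel
theorem tau_swaps_len : tauSwaps.length = 35 := by decide +kernel
theorem tau_zero : pc tauP 0 = 0 := by decide +kernel
theorem c_pow : allBelow (fun i => Nat.beq (iterF (pc cP) 11 i) i) 100 = true := by decide +kernel
theorem c_zero : pc cP 0 = 0 := by decide +kernel
theorem c_fix : allBelow (fun i => Nat.beq i 0 || !Nat.beq (pc cP i) i) 100 = true := by decide +kernel
theorem nmk_lt : allBelow (fun i => Nat.blt (nmk i) 4194304) 77 = true := by decide +kernel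
theorem nmk_inj : allBelow (fun i => allBelow (fun j => Nat.beq i j || !Nat.beq (nmk i) (nmk j)) 77) 77 = true := by decide +kernel

end Cfsg.Agent.Lib.Steiner.HS
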