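import Cfsg.Agent.Lib.Steiner.Unique

/-!
# Uniqueness certificate for the Steiner system S(4,5,11) (generated by work7/uniq/gen_uniq.py)
-/

set_option autoImplicit false

namespace Cfsg.Agent.Lib.Steiner.U11

open Cfsg Cfsg.Agent.Lib.Compute Cfsg.Agent.Lib.Steiner

/-- The standard blocks. -/
def blocks0 : List ℕ := [31, 103, 121, 173, 186, 206, 211, 244, 299, 310, 341, 346, 364, 391, 412, 433, 457, 482, 558, 565, 587, 604, 626, 662, 665, 675, 709, 744, 781, 787, 824, 838, 865, 906, 932, 976, 1075, 1084, 1101, 1110, 1130, 1163, 1173, 1190, 1240, 1249, 1294, 1305, 1317, 1347, 1392, 1426, 1448, 1476, 1543, 1562, 1577, 1617, 1636, 1676, 1712, 1730, 1812, 1826, 1864, 1921]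

theorem blocks0_bound : allL (fun b => Nat.blt b (2 ^ 11)) blocks0 = true := by decide +kernel

theorem blocks0_nodup : blocks0.Nodup := nodup_of_ascFrom (p := 0) (by decide +kernel)

theorem blocks0_length : blocks0.length = 66 := by decide +kernel

/-- State 86. -/
abbrev T86 : List ℕ := blocks0

/-- State 51. -/
def T51 : List ℕ := [31, 103, 121, 173, 211, 299, 341, 391, 433, 457, 558, 565, 587, 665, 675, 709, 781, 787, 865, 1075, 1101, 1163, 1173, 1249, 1305, 1317, 1347, 1543, 1577, 1617, 1921]

/-- State 50. -/
def T50 : List ℕ := [31, 103, 121, 173, 211, 299, 341, 391, 433, 457, 565, 587, 665, 675, 709, 781, 787, 865, 1075, 1101, 1163, 1173, 1249, 1305, 1317, 1347, 1543, 1577, 1617, 1921]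

/-- State 26. -/
def T26 : List ℕ := [31, 103, 121, 171, 213, 301, 339, 391, 409, 481, 565, 587, 653, 659, 803, 837, 1075, 1101, 1189, 1219, 1291, 1301, 1543, 1561, 1633, 1921]

/-- State 12. -/
def T12 : List ℕ := [31, 103, 121, 171, 391, 409, 481, 587, 1543, 1561, 1633, 1921]

/-- State 31. -/
def T31 : List ℕ := [31, 103, 121, 299, 391, 665, 675, 709, 1305, 1543, 1921]

/-- State 11. -/
def T11 : List ℕ := [31, 103, 121, 171, 391, 409, 481, 1543, 1561, 1633, 1921]

/-- State 30. -/
def T30 : List ℕ := [31, 103, 121, 391, 665, 675, 709, 1305, 1543, 1921]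

/-- State 10. -/
def T10 : List ℕ := [31, 103, 121, 391, 409, 481, 1543, 1561, 1633, 1921]

/-- State 29. -/
def T29 : List ℕ := [31, 103, 121, 391, 665, 675, 1305, 1543, 1921]

/-- State 28. -/
def T28 : List ℕ := [31, 103, 121, 391, 665, 1305, 1543, 1921]

/-- State 27. -/
def T27 : List ℕ := [31, 103, 121, 391, 665, 1543, 1921]

/-- State 7. -/
def T7 : List ℕ := [31, 103, 121, 391, 409, 1543, 1921]

/-- State 6. -/
def T6 : List ℕ := [31, 103, 121, 391, 1543, 1921]

/-- State 5. -/
def T5 : List ℕ := [31, 103, 121, 391, 1543]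

/-- State 4. -/
def T4 : List ℕ := [31, 103, 391, 1543]

/-- State 3. -/
def T3 : List ℕ := [31, 103, 391]

/-- State 2. -/
def T2 : List ℕ := [31, 103]

/-- State 1. -/
def T1 : List ℕ := [31]

/-- State 0. -/
def T0 : List ℕ := []

theorem bnd51 : allL (fun b => Nat.blt b (2 ^ 11)) T51 = true := by decide +kernel

/-- Forced steps from state 51. -/
def steps51 : List (ℕ × ℕ) := [(142, 206), (270, 1294), (278, 310), (150, 662), (86, 1110), (166, 1190), (326, 838), (58, 186), (90, 346), (538, 1562), (106, 1130), (394, 906), (114, 626), (402, 1426), (226, 482), (802, 1826), (706, 1730), (60, 1084), (92, 604), (156, 412), (108, 364), (652, 1676), (116, 244), (788, 1812), (612, 1636), (420, 932), (452, 1476), (312, 824), (216, 1240), (232, 744), (424, 1448), (840, 1864), (368, 1392), (688, 1712), (464, 976)]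

theorem chk51 : fCheck 11 4 14 (5 - 4) (subL T86) steps51 T51 = true := by decide +kernel

theorem bnd50 : allL (fun b => Nat.blt b (2 ^ 11)) T50 = true := by decide +kernel

/-- Cases at state 50. -/
def kids50 : List (ℕ × ℕ × ℕ) := [(558, 11584701642934304, 0), (1070, 10493983895750688, 0)]

theorem chkA50 : allL (kidOK 11 [T51] T50) kids50 = true := by decide +kernel

theorem chkB50 : enumM 46 (fun c => bcond (consM 14 T50 c) (anyL (fun e => Nat.beq e.1 c) kids50) true) 11 (5 - 4) 46 = true := by decide +kernel

theorem chkC50 : fpop 46 = 4 := by decide +kernel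

theorem bnd26 : allL (fun b => Nat.blt b (2 ^ 11)) T26 = true := by decide +kernel

/-- Cases at state 26. -/
def kids26 : List (ℕ × ℕ × ℕ) := []

theorem chkA26 : allL (kidOK 11 [] T26) kids26 = true := by decide +kernel

theorem chkB26 : enumM 553 (fun c => bcond (consM 14 T26 c) (anyL (fun e => Nat.beq e.1 c) kids26) true) 11 (5 - 4) 553 = true := by decide +kernel

theorem chkC26 : fpop 553 = 4 := by decide +kernel

theorem bnd12 : allL (fun b => Nat.blt b (2 ^ 11)) T12 = true := by decide +kernel

/-- Forced steps from state 12. -/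
def steps12 : List (ℕ × ℕ) := [(267, 1291), (1059, 1075), (291, 803), (275, 339), (147, 659), (195, 1219), (297, 301), (525, 653), (77, 1101), (549, 565), (85, 213), (277, 1301), (165, 1189), (325, 837)]

theorem chk12 : fCheck 11 4 14 (5 - 4) (subL T26) steps12 T12 = true := by decide +kernel

theorem bnd31 : allL (fun b => Nat.blt b (2 ^ 11)) T31 = true := by decide +kernel

/-- Forced steps from state 31. -/
def steps31 : List (ℕ × ℕ) := [(523, 587), (139, 1163), (51, 1075), (147, 211), (275, 787), (323, 1347), (141, 173), (525, 781), (77, 1101), (85, 341), (53, 565), (149, 1173), (293, 1317), (553, 1577), (201, 457), (177, 433), (593, 1617), (225, 1249), (353, 865)]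

theorem chk31 : fCheck 11 4 14 (5 - 4) (subL T50) steps31 T31 = true := by decide +kernel

theorem bnd11 : allL (fun b => Nat.blt b (2 ^ 11)) T11 = true := by decide +kernel

/-- Cases at state 11. -/
def kids11 : List (ℕ × ℕ × ℕ) := [(587, 11584701642934304, 0), (779, 11582436114794528, 0)]

theorem chkA11 : allL (kidOK 11 [T12] T11) kids11 = true := by decide +kernel

theorem chkB11 : enumM 523 (fun c => bcond (consM 14 T11 c) (anyL (fun e => Nat.beq e.1 c) kids11) true) 11 (5 - 4) 523 = true := by decide +kernel

theorem chkC11 : fpop 523 = 4 := by decide +kernel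

theorem bnd30 : allL (fun b => Nat.blt b (2 ^ 11)) T30 = true := by decide +kernel

/-- Cases at state 30. -/
def kids30 : List (ℕ × ℕ × ℕ) := [(299, 11584701642934304, 0), (1067, 9264800827803680, 0)]

theorem chkA30 : allL (kidOK 11 [T31] T30) kids30 = true := by decide +kernel

theorem chkB30 : enumM 43 (fun c => bcond (consM 14 T30 c) (anyL (fun e => Nat.beq e.1 c) kids30) true) 11 (5 - 4) 43 = true := by decide +kernel

theorem chkC30 : fpop 43 = 4 := by decide +kernel

theorem bnd10 : allL (fun b => Nat.blt b (2 ^ 11)) T10 = true := by decide +kernel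

/-- Cases at state 10. -/
def kids10 : List (ℕ × ℕ × ℕ) := [(171, 11584701642934304, 0), (299, 11583636491044896, 0), (555, 9264800827803680, 0), (1067, 8174085293049888, 0)]

theorem chkA10 : allL (kidOK 11 [T11] T10) kids10 = true := by decide +kernel

theorem chkB10 : enumM 43 (fun c => bcond (consM 14 T10 c) (anyL (fun e => Nat.beq e.1 c) kids10) true) 11 (5 - 4) 43 = true := by decide +kernel

theorem chkC10 : fpop 43 = 4 := by decide +kernel

theorem bnd29 : allL (fun b => Nat.blt b (2 ^ 11)) T29 = true := by decide +kernel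

/-- Forced steps from state 29. -/
def steps29 : List (ℕ × ℕ) := [(645, 709)]

theorem chk29 : fCheck 11 4 14 (5 - 4) (subL T30) steps29 T29 = true := by decide +kernel

theorem bnd28 : allL (fun b => Nat.blt b (2 ^ 11)) T28 = true := by decide +kernel

/-- Cases at state 28. -/
def kids28 : List (ℕ × ℕ × ℕ) := [(675, 11584701642934304, 0), (707, 11584700602746912, 0)]

theorem chkA28 : allL (kidOK 11 [T29] T28) kids28 = true := by decide +kernel

theorem chkB28 : enumM 643 (fun c => bcond (consM 14 T28 c) (anyL (fun e => Nat.beq e.1 c) kids28) true) 11 (5 - 4) 643 = true := by decide +kernel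

theorem chkC28 : fpop 643 = 4 := by decide +kernel

theorem bnd27 : allL (fun b => Nat.blt b (2 ^ 11)) T27 = true := by decide +kernel

/-- Forced steps from state 27. -/
def steps27 : List (ℕ × ℕ) := [(281, 1305)]

theorem chk27 : fCheck 11 4 14 (5 - 4) (subL T28) steps27 T27 = true := by decide +kernel

theorem bnd7 : allL (fun b => Nat.blt b (2 ^ 11)) T7 = true := by decide +kernel

/-- Forced steps from state 7. -/
def steps7 : List (ℕ × ℕ) := [(537, 1561), (417, 481), (609, 1633)]

theorem chk7 : fCheck 11 4 14 (5 - 4) (subL T10) steps7 T7 = true := by decide +kernel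

theorem bnd6 : allL (fun b => Nat.blt b (2 ^ 11)) T6 = true := by decide +kernel

/-- Cases at state 6. -/
def kids6 : List (ℕ × ℕ × ℕ) := [(409, 11584701642934304, 0), (665, 11584701642934304, 1), (1177, 10493986108180512, 1)]

theorem chkA6 : allL (kidOK 11 [T7, T27] T6) kids6 = true := by decide +kernel

theorem chkB6 : enumM 153 (fun c => bcond (consM 14 T6 c) (anyL (fun e => Nat.beq e.1 c) kids6) true) 11 (5 - 4) 153 = true := by decide +kernel

theorem chkC6 : fpop 153 = 4 := by decide +kernel

theorem bnd5 : allL (fun b => Nat.blt b (2 ^ 11)) T5 = true := by decide +kernel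

/-- Forced steps from state 5. -/
def steps5 : List (ℕ × ℕ) := [(1920, 1921)]

theorem chk5 : fCheck 11 4 14 (5 - 4) (subL T6) steps5 T5 = true := by decide +kernel

theorem bnd4 : allL (fun b => Nat.blt b (2 ^ 11)) T4 = true := by decide +kernel

/-- Cases at state 4. -/
def kids4 : List (ℕ × ℕ × ℕ) := [(121, 11584701642934304, 0), (122, 11584701642934273, 0), (124, 11584701642932289, 0)]

theorem chkA4 : allL (kidOK 11 [T5] T4) kids4 = true := by decide +kernel

theorem chkB4 : enumM 120 (fun c => bcond (consM 14 T4 c) (anyL (fun e => Nat.beq e.1 c) kids4) true) 11 (5 - 4) 120 = true := by decide +kernel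

theorem chkC4 : fpop 120 = 4 := by decide +kernel

theorem bnd3 : allL (fun b => Nat.blt b (2 ^ 11)) T3 = true := by decide +kernel

/-- Forced steps from state 3. -/
def steps3 : List (ℕ × ℕ) := [(519, 1543)]

theorem chk3 : fCheck 11 4 14 (5 - 4) (subL T4) steps3 T3 = true := by decide +kernel

theorem bnd2 : allL (fun b => Nat.blt b (2 ^ 11)) T2 = true := by decide +kernel

/-- Cases at state 2. -/
def kids2 : List (ℕ × ℕ × ℕ) := [(391, 11584701642934304, 0), (647, 11550616782473248, 0), (1159, 9369185712965664, 0)]

theorem chkA2 : allL (kidOK 11 [T3] T2) kids2 = true := by decide +kernel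

theorem chkB2 : enumM 135 (fun c => bcond (consM 14 T2 c) (anyL (fun e => Nat.beq e.1 c) kids2) true) 11 (5 - 4) 135 = true := by decide +kernel

theorem chkC2 : fpop 135 = 4 := by decide +kernel

theorem bnd1 : allL (fun b => Nat.blt b (2 ^ 11)) T1 = true := by decide +kernel

/-- Cases at state 1. -/
def kids1 : List (ℕ × ℕ × ℕ) := [(103, 11584701642934304, 0), (167, 11584668356937760, 0), (295, 11582538053158944, 0), (551, 11480283471775776, 0), (1063, 7117421332760608, 0)]

theorem chkA1 : allL (kidOK 11 [T2] T1) kids1 = true := by decide +kernel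

theorem chkB1 : enumM 39 (fun c => bcond (consM 14 T1 c) (anyL (fun e => Nat.beq e.1 c) kids1) true) 11 (5 - 4) 39 = true := by decide +kernel

theorem chkC1 : fpop 39 = 4 := by decide +kernel

theorem bnd0 : allL (fun b => Nat.blt b (2 ^ 11)) T0 = true := by decide +kernel

/-- Cases at state 0. -/
def kids0 : List (ℕ × ℕ × ℕ) := [(31, 11584701642934304, 0), (47, 11584701610428448, 0), (79, 11584699530053664, 0), (143, 11584599672064032, 0), (271, 11580339064506400, 0), (527, 11409914762201120, 0), (1039, 4865621553678368, 0)]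

theorem chkA0 : allL (kidOK 11 [T1] T0) kids0 = true := by decide +kernel

theorem chkB0 : enumM 15 (fun c => bcond (consM 14 T0 c) (anyL (fun e => Nat.beq e.1 c) kids0) true) 11 (5 - 4) 15 = true := by decide +kernel

theorem chkC0 : fpop 15 = 4 := by decide +kernel

section
variable {α : Type*} [Fintype α] [DecidableEq α] {B : Set (Finset α)}
  (hB : IsSteinerSystem 4 5 B) (hall : ∀ b ∈ B, ∀ c ∈ B, b ≠ c → tb 14 (b ∩ c).card = true)
include hB hall

theorem h86 : Holds 11 B blocks0 T86 := holds_self

theorem h51 : Holds 11 B blocks0 T51 :=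
  holds_forced (by norm_num) hB hall (h86 hB hall) steps51 _ bnd51 chk51

theorem h50 : Holds 11 B blocks0 T50 :=
  holds_branch (Ts := [T51]) (by norm_num) hB hall (by
    intro j hj
    simp only [List.length_cons, List.length_nil] at hj
    interval_cases j
    · exact h51 hB hall)
    bnd50 (by decide +kernel) chkC50 chkA50 chkB50

theorem h26 : Holds 11 B blocks0 T26 :=
  holds_branch (Ts := []) (by norm_num) hB hall (by intro j hj; simp at hj)
    bnd26 (by decide +kernel) chkC26 chkA26 chkB26

theorem h12 : Holds 11 B blocks0 T12 :=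
  holds_forced (by norm_num) hB hall (h26 hB hall) steps12 _ bnd12 chk12

theorem h31 : Holds 11 B blocks0 T31 :=
  holds_forced (by norm_num) hB hall (h50 hB hall) steps31 _ bnd31 chk31

theorem h11 : Holds 11 B blocks0 T11 :=
  holds_branch (Ts := [T12]) (by norm_num) hB hall (by
    intro j hj
    simp only [List.length_cons, List.length_nil] at hj
    interval_cases j
    · exact h12 hB hall)
    bnd11 (by decide +kernel) chkC11 chkA11 chkB11

theorem h30 : Holds 11 B blocks0 T30 :=
  holds_branch (Ts := [T31]) (by norm_num) hB hall (by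
    intro j hj
    simp only [List.length_cons, List.length_nil] at hj
    interval_cases j
    · exact h31 hB hall)
    bnd30 (by decide +kernel) chkC30 chkA30 chkB30

theorem h10 : Holds 11 B blocks0 T10 :=
  holds_branch (Ts := [T11]) (by norm_num) hB hall (by
    intro j hj
    simp only [List.length_cons, List.length_nil] at hj
    interval_cases j
    · exact h11 hB hall)
    bnd10 (by decide +kernel) chkC10 chkA10 chkB10

theorem h29 : Holds 11 B blocks0 T29 :=
  holds_forced (by norm_num) hB hall (h30 hB hall) steps29 _ bnd29 chk29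

theorem h28 : Holds 11 B blocks0 T28 :=
  holds_branch (Ts := [T29]) (by norm_num) hB hall (by
    intro j hj
    simp only [List.length_cons, List.length_nil] at hj
    interval_cases j
    · exact h29 hB hall)
    bnd28 (by decide +kernel) chkC28 chkA28 chkB28

theorem h27 : Holds 11 B blocks0 T27 :=
  holds_forced (by norm_num) hB hall (h28 hB hall) steps27 _ bnd27 chk27

theorem h7 : Holds 11 B blocks0 T7 :=
  holds_forced (by norm_num) hB hall (h10 hB hall) steps7 _ bnd7 chk7

theorem h6 : Holds 11 B blocks0 T6 :=
  holds_branch (Ts := [T7, T27]) (by norm_num) hB hall (by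
    intro j hj
    simp only [List.length_cons, List.length_nil] at hj
    interval_cases j
    · exact h7 hB hall
    · exact h27 hB hall)
    bnd6 (by decide +kernel) chkC6 chkA6 chkB6

theorem h5 : Holds 11 B blocks0 T5 :=
  holds_forced (by norm_num) hB hall (h6 hB hall) steps5 _ bnd5 chk5

theorem h4 : Holds 11 B blocks0 T4 :=
  holds_branch (Ts := [T5]) (by norm_num) hB hall (by
    intro j hj
    simp only [List.length_cons, List.length_nil] at hj
    interval_cases j
    · exact h5 hB hall)
    bnd4 (by decide +kernel) chkC4 chkA4 chkB4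

theorem h3 : Holds 11 B blocks0 T3 :=
  holds_forced (by norm_num) hB hall (h4 hB hall) steps3 _ bnd3 chk3

theorem h2 : Holds 11 B blocks0 T2 :=
  holds_branch (Ts := [T3]) (by norm_num) hB hall (by
    intro j hj
    simp only [List.length_cons, List.length_nil] at hj
    interval_cases j
    · exact h3 hB hall)
    bnd2 (by decide +kernel) chkC2 chkA2 chkB2

theorem h1 : Holds 11 B blocks0 T1 :=
  holds_branch (Ts := [T2]) (by norm_num) hB hall (by
    intro j hj
    simp only [List.length_cons, List.length_nil] at hj
    interval_cases j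
    · exact h2 hB hall)
    bnd1 (by decide +kernel) chkC1 chkA1 chkB1

theorem h0 : Holds 11 B blocks0 T0 :=
  holds_branch (Ts := [T1]) (by norm_num) hB hall (by
    intro j hj
    simp only [List.length_cons, List.length_nil] at hj
    interval_cases j
    · exact h1 hB hall)
    bnd0 (by decide +kernel) chkC0 chkA0 chkB0

/-- The standard blocks exist. -/
theorem hasStd (hα : Fintype.card α = 11) : HasStd 11 B blocks0 := by
  obtain ⟨E⟩ := exists_enc hα (by norm_num)
  exact h0 hB hall E (by simp [T0])

end

end Cfsg.Agent.Lib.Steiner.U11
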