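import Cfsg.Agent.Lib.Steiner.Unique

/-!
# Uniqueness certificate for the Steiner system S(5,6,12) (generated by work7/uniq/gen_uniq.py)
-/

set_option autoImplicit false

namespace Cfsg.Agent.Lib.Steiner.U12

open Cfsg Cfsg.Agent.Lib.Compute Cfsg.Agent.Lib.Steiner

/-- The standard blocks. -/
def blocks0 : List ℕ := [63, 207, 243, 252, 347, 366, 373, 413, 423, 442, 470, 489, 599, 621, 634, 670, 683, 693, 729, 742, 783, 822, 825, 860, 867, 915, 940, 965, 970, 1008, 1117, 1131, 1142, 1175, 1198, 1209, 1242, 1253, 1310, 1325, 1331, 1351, 1400, 1419, 1460, 1484, 1489, 1506, 1563, 1575, 1596, 1614, 1649, 1677, 1714, 1731, 1748, 1768, 1813, 1834, 1865, 1874, 1892, 1926, 1944, 1953, 2142, 2151, 2169, 2203, 2221, 2230, 2261, 2282, 2327, 2347, 2364, 2381, 2418, 2446, 2481, 2499, 2520, 2532, 2589, 2606, 2611, 2635, 2676, 2695, 2744, 2764, 2770, 2785, 2842, 2853, 2886, 2897, 2920, 2953, 2964, 2978, 3087, 3125, 3130, 3155, 3180, 3228, 3235, 3270, 3273, 3312, 3353, 3366, 3402, 3412, 3425, 3461, 3474, 3496, 3606, 3625, 3653, 3672, 3682, 3722, 3729, 3748,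 3843, 3852, 3888, 4032]

theorem blocks0_bound : allL (fun b => Nat.blt b (2 ^ 12)) blocks0 = true := by decide +kernel

theorem blocks0_nodup : blocks0.Nodup := nodup_of_ascFrom (p := 0) (by decide +kernel)

theorem blocks0_length : blocks0.length = 132 := by decide +kernel

/-- State 152. -/
abbrev T152 : List ℕ := blocks0

/-- State 132. -/
def T132 : List ℕ := [63, 207, 243, 252, 347, 366, 373, 413, 423, 442, 470, 489, 599, 621, 634, 670, 683, 693, 729, 742, 783, 822, 825, 860, 867, 915, 940, 965, 970, 1117, 1131, 1142, 1175, 1198, 1209, 1242, 1253, 1310, 1325, 1331, 1351, 1400, 1419, 1460, 1484, 1489, 1563, 1575, 1596, 1614, 1649, 1677, 1731, 1748, 1813, 1834, 1865, 1892, 1926, 1953, 2142, 2151, 2169, 2203, 2221, 2230, 2261, 2282, 2327, 2347, 2364, 2381, 2446, 2481, 2499, 2532, 2589, 2606, 2611, 2635, 2676, 2695, 2744, 2764, 2785, 2842, 2853, 2886, 2897, 2953, 2964, 3087, 3125, 3130, 3155, 3180, 3228, 3235, 3270, 3273, 3353, 3366, 3412, 3425, 3461, 3606, 3625, 3653, 3729, 3748, 3843, 3852]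

/-- State 72. -/
def T72 : List ℕ := [63, 207, 243, 252, 347, 413, 423, 599, 683, 783, 860, 867, 915, 940, 1117, 1131, 1175, 1331, 1351, 1400, 1419, 1460, 1484, 1563, 1575, 1596, 1731, 1748, 1892, 2151, 2203, 2327, 2347, 2364, 2499, 2532, 2611, 2635, 2676, 2695, 2744, 2764, 2964, 3087, 3155, 3180, 3228, 3235, 3412, 3748, 3843, 3852]

/-- State 71. -/
def T71 : List ℕ := [63, 207, 243, 252, 347, 423, 599, 683, 783, 860, 867, 915, 940, 1117, 1131, 1175, 1331, 1351, 1400, 1419, 1460, 1484, 1563, 1575, 1596, 1731, 1748, 1892, 2151, 2203, 2327, 2347, 2364, 2499, 2532, 2611, 2635, 2676, 2695, 2744, 2764, 2964, 3087, 3155, 3180, 3228, 3235, 3412, 3748, 3843, 3852]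

/-- State 153. -/
def T153 : List ℕ := [63, 207, 243, 252, 347, 423, 599, 683, 783, 860, 867, 915, 940, 1131, 1175, 1331, 1351, 1400, 1419, 1460, 1484, 1563, 1575, 1596, 1731, 1748, 1892, 2141, 2151, 2203, 2327, 2347, 2364, 2499, 2532, 2611, 2635, 2676, 2695, 2744, 2764, 2964, 3087, 3155, 3180, 3228, 3235, 3412, 3748, 3843, 3852]

/-- State 70. -/
def T70 : List ℕ := [63, 207, 243, 252, 347, 423, 599, 683, 783, 860, 867, 915, 940, 1131, 1175, 1331, 1351, 1400, 1419, 1460, 1484, 1563, 1575, 1596, 1731, 1748, 1892, 2151, 2203, 2327, 2347, 2364, 2499, 2532, 2611, 2635, 2676, 2695, 2744, 2764, 2964, 3087, 3155, 3180, 3228, 3235, 3412, 3748, 3843, 3852]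

/-- State 26. -/
def T26 : List ℕ := [63, 207, 243, 343, 427, 603, 679, 783, 819, 963, 1131, 1175, 1307, 1319, 1607, 1675, 2151, 2203, 2379, 2439, 2583, 2603, 3087, 3123, 3267, 3843]

/-- State 12. -/
def T12 : List ℕ := [63, 207, 243, 343, 783, 819, 963, 1175, 3087, 3123, 3267, 3843]

/-- State 31. -/
def T31 : List ℕ := [63, 207, 243, 599, 783, 1331, 1351, 1419, 2611, 3087, 3843]

/-- State 11. -/
def T11 : List ℕ := [63, 207, 243, 343, 783, 819, 963, 3087, 3123, 3267, 3843]

/-- State 30. -/
def T30 : List ℕ := [63, 207, 243, 783, 1331, 1351, 1419, 2611, 3087, 3843]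

/-- State 10. -/
def T10 : List ℕ := [63, 207, 243, 783, 819, 963, 3087, 3123, 3267, 3843]

/-- State 29. -/
def T29 : List ℕ := [63, 207, 243, 783, 1331, 1351, 2611, 3087, 3843]

/-- State 28. -/
def T28 : List ℕ := [63, 207, 243, 783, 1331, 2611, 3087, 3843]

/-- State 27. -/
def T27 : List ℕ := [63, 207, 243, 783, 1331, 3087, 3843]

/-- State 7. -/
def T7 : List ℕ := [63, 207, 243, 783, 819, 3087, 3843]

/-- State 6. -/
def T6 : List ℕ := [63, 207, 243, 783, 3087, 3843]

/-- State 5. -/
def T5 : List ℕ := [63, 207, 243, 783, 3087]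

/-- State 4. -/
def T4 : List ℕ := [63, 207, 783, 3087]

/-- State 3. -/
def T3 : List ℕ := [63, 207, 783]

/-- State 2. -/
def T2 : List ℕ := [63, 207]

/-- State 1. -/
def T1 : List ℕ := [63]

/-- State 0. -/
def T0 : List ℕ := []

theorem bnd132 : allL (fun b => Nat.blt b (2 ^ 12)) T132 = true := by decide +kernel

/-- Forced steps from state 132. -/
def steps132 : List (ℕ × ℕ) := [(1354, 3402), (1674, 3722), (370, 2418), (690, 1714), (722, 2770), (850, 1874), (1426, 3474), (482, 1506), (1634, 3682), (930, 2978), (472, 2520), (1624, 3672), (920, 1944), (744, 1768), (872, 2920), (1448, 3496), (496, 1008), (1264, 3312), (1840, 3888), (1984, 4032)]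

theorem chk132 : fCheck 12 5 29 (6 - 5) (subL T152) steps132 T132 = true := by decide +kernel

theorem bnd72 : allL (fun b => Nat.blt b (2 ^ 12)) T72 = true := by decide +kernel

/-- Forced steps from state 72. -/
def steps72 : List (ℕ × ℕ) := [(541, 2589), (557, 621), (301, 1325), (173, 2221), (333, 2381), (653, 1677), (117, 373), (181, 693), (1077, 3125), (213, 2261), (789, 1813), (229, 1253), (805, 2853), (453, 965), (1605, 3653), (1413, 3461), (121, 2169), (185, 1209), (313, 825), (217, 729), (1305, 3353), (233, 489), (1577, 3625), (1225, 3273), (841, 1865), (905, 2953), (625, 1649), (433, 2481), (465, 1489), (849, 2897), (1681, 3729), (737, 2785), (1377, 3425), (929, 1953), (94, 2142), (158, 670), (286, 1310), (110, 366), (174, 1198), (558, 2606), (590, 1614), (398, 2446), (118, 1142), (182, 2230), (310, 822), (214, 470), (1558, 3606), (230, 742), (1318, 3366), (1222, 3270), (838, 2886), (902, 1926), (122, 634), (186, 442), (1082, 3130), (218, 1242), (794, 2842), (234, 2282), (810, 1834), (458, 970)]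

theorem chk72 : fCheck 12 5 29 (6 - 5) (subL T132) steps72 T72 = true := by decide +kernel

theorem bnd71 : allL (fun b => Nat.blt b (2 ^ 12)) T71 = true := by decide +kernel

/-- Forced steps from state 71. -/
def steps71 : List (ℕ × ℕ) := [(285, 413)]

theorem chk71 : fCheck 12 5 29 (6 - 5) (subL T72) steps71 T71 = true := by decide +kernel

theorem bnd153 : allL (fun b => Nat.blt b (2 ^ 12)) T153 = true := by decide +kernel

/-- Cases at state 153. -/
def kids153 : List (ℕ × ℕ × ℕ) := [(669, 298727627508779040, 0)]

theorem chkA153 : allL (kidOK 12 [T72] T153) kids153 = true := by decide +kernel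

theorem chkB153 : enumM 541 (fun c => bcond (consM 29 T153 c) (anyL (fun e => Nat.beq e.1 c) kids153) true) 12 (6 - 5) 541 = true := by decide +kernel

theorem chkC153 : fpop 541 = 5 := by decide +kernel

theorem bnd70 : allL (fun b => Nat.blt b (2 ^ 12)) T70 = true := by decide +kernel

/-- Cases at state 70. -/
def kids70 : List (ℕ × ℕ × ℕ) := [(1117, 407901468851537952, 0), (2141, 407901468851537952, 1)]

theorem chkA70 : allL (kidOK 12 [T71, T153] T70) kids70 = true := by decide +kernel

theorem chkB70 : enumM 93 (fun c => bcond (consM 29 T70 c) (anyL (fun e => Nat.beq e.1 c) kids70) true) 12 (6 - 5) 93 = true := by decide +kernel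

theorem chkC70 : fpop 93 = 5 := by decide +kernel

theorem bnd26 : allL (fun b => Nat.blt b (2 ^ 12)) T26 = true := by decide +kernel

/-- Cases at state 26. -/
def kids26 : List (ℕ × ℕ × ℕ) := []

theorem chkA26 : allL (kidOK 12 [] T26) kids26 = true := by decide +kernel

theorem chkB26 : enumM 1107 (fun c => bcond (consM 29 T26 c) (anyL (fun e => Nat.beq e.1 c) kids26) true) 12 (6 - 5) 1107 = true := by decide +kernel

theorem chkC26 : fpop 1107 = 5 := by decide +kernel

theorem bnd12 : allL (fun b => Nat.blt b (2 ^ 12)) T12 = true := by decide +kernel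

/-- Forced steps from state 12. -/
def steps12 : List (ℕ × ℕ) := [(535, 2583), (2119, 2151), (583, 1607), (551, 679), (295, 1319), (391, 2439), (595, 603), (1051, 1307), (155, 2203), (1099, 1131), (171, 427), (555, 2603), (331, 2379), (651, 1675)]

theorem chk12 : fCheck 12 5 29 (6 - 5) (subL T26) steps12 T12 = true := by decide +kernel

theorem bnd31 : allL (fun b => Nat.blt b (2 ^ 12)) T31 = true := by decide +kernel

/-- Forced steps from state 31. -/
def steps31 : List (ℕ × ℕ) := [(1047, 1175), (279, 2327), (103, 2151), (295, 423), (551, 1575), (647, 2695), (283, 347), (1051, 1563), (155, 2203), (171, 683), (107, 1131), (299, 2347), (587, 2635), (1107, 3155), (403, 915), (355, 867), (1187, 3235), (451, 2499), (707, 1731), (124, 252), (316, 2364), (572, 1596), (348, 860), (1180, 3228), (1132, 3180), (428, 940), (460, 1484), (716, 2764), (1804, 3852), (628, 2676), (436, 1460), (724, 1748), (1364, 3412), (916, 2964), (484, 2532), (868, 1892), (1700, 3748), (376, 1400), (696, 2744)]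

theorem chk31 : fCheck 12 5 29 (6 - 5) (subL T70) steps31 T31 = true := by decide +kernel

theorem bnd11 : allL (fun b => Nat.blt b (2 ^ 12)) T11 = true := by decide +kernel

/-- Cases at state 11. -/
def kids11 : List (ℕ × ℕ × ℕ) := [(1175, 407901468851537952, 0), (1559, 407828971951065120, 0)]

theorem chkA11 : allL (kidOK 12 [T12] T11) kids11 = true := by decide +kernel

theorem chkB11 : enumM 1047 (fun c => bcond (consM 29 T11 c) (anyL (fun e => Nat.beq e.1 c) kids11) true) 12 (6 - 5) 1047 = true := by decide +kernel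

theorem chkC11 : fpop 1047 = 5 := by decide +kernel

theorem bnd30 : allL (fun b => Nat.blt b (2 ^ 12)) T30 = true := by decide +kernel

/-- Cases at state 30. -/
def kids30 : List (ℕ × ℕ × ℕ) := [(599, 407901468851537952, 0), (2135, 333664642767357984, 0)]

theorem chkA30 : allL (kidOK 12 [T31] T30) kids30 = true := by decide +kernel

theorem chkB30 : enumM 87 (fun c => bcond (consM 29 T30 c) (anyL (fun e => Nat.beq e.1 c) kids30) true) 12 (6 - 5) 87 = true := by decide +kernel

theorem chkC30 : fpop 87 = 5 := by decide +kernel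

theorem bnd10 : allL (fun b => Nat.blt b (2 ^ 12)) T10 = true := by decide +kernel

/-- Cases at state 10. -/
def kids10 : List (ℕ × ℕ × ℕ) := [(343, 407901468851537952, 0), (599, 407867383991076896, 0), (1111, 333664642767357984, 0), (2135, 298761745655236640, 0)]

theorem chkA10 : allL (kidOK 12 [T11] T10) kids10 = true := by decide +kernel

theorem chkB10 : enumM 87 (fun c => bcond (consM 29 T10 c) (anyL (fun e => Nat.beq e.1 c) kids10) true) 12 (6 - 5) 87 = true := by decide +kernel

theorem chkC10 : fpop 87 = 5 := by decide +kernel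

theorem bnd29 : allL (fun b => Nat.blt b (2 ^ 12)) T29 = true := by decide +kernel

/-- Forced steps from state 29. -/
def steps29 : List (ℕ × ℕ) := [(1291, 1419)]

theorem chk29 : fCheck 12 5 29 (6 - 5) (subL T30) steps29 T29 = true := by decide +kernel

theorem bnd28 : allL (fun b => Nat.blt b (2 ^ 12)) T28 = true := by decide +kernel

/-- Cases at state 28. -/
def kids28 : List (ℕ × ℕ × ℕ) := [(1351, 407901468851537952, 0), (1415, 407901435565541408, 0)]

theorem chkA28 : allL (kidOK 12 [T29] T28) kids28 = true := by decide +kernel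

theorem chkB28 : enumM 1287 (fun c => bcond (consM 29 T28 c) (anyL (fun e => Nat.beq e.1 c) kids28) true) 12 (6 - 5) 1287 = true := by decide +kernel

theorem chkC28 : fpop 1287 = 5 := by decide +kernel

theorem bnd27 : allL (fun b => Nat.blt b (2 ^ 12)) T27 = true := by decide +kernel

/-- Forced steps from state 27. -/
def steps27 : List (ℕ × ℕ) := [(563, 2611)]

theorem chk27 : fCheck 12 5 29 (6 - 5) (subL T28) steps27 T27 = true := by decide +kernel

theorem bnd7 : allL (fun b => Nat.blt b (2 ^ 12)) T7 = true := by decide +kernel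

/-- Forced steps from state 7. -/
def steps7 : List (ℕ × ℕ) := [(1075, 3123), (835, 963), (1219, 3267)]

theorem chk7 : fCheck 12 5 29 (6 - 5) (subL T10) steps7 T7 = true := by decide +kernel

theorem bnd6 : allL (fun b => Nat.blt b (2 ^ 12)) T6 = true := by decide +kernel

/-- Cases at state 6. -/
def kids6 : List (ℕ × ℕ × ℕ) := [(819, 407901468851537952, 0), (1331, 407901468851537952, 1), (2355, 372998571739416608, 1)]

theorem chkA6 : allL (kidOK 12 [T7, T27] T6) kids6 = true := by decide +kernel

theorem chkB6 : enumM 307 (fun c => bcond (consM 29 T6 c) (anyL (fun e => Nat.beq e.1 c) kids6) true) 12 (6 - 5) 307 = true := by decide +kernel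

theorem chkC6 : fpop 307 = 5 := by decide +kernel

theorem bnd5 : allL (fun b => Nat.blt b (2 ^ 12)) T5 = true := by decide +kernel

/-- Forced steps from state 5. -/
def steps5 : List (ℕ × ℕ) := [(3841, 3843)]

theorem chk5 : fCheck 12 5 29 (6 - 5) (subL T6) steps5 T5 = true := by decide +kernel

theorem bnd4 : allL (fun b => Nat.blt b (2 ^ 12)) T4 = true := by decide +kernel

/-- Cases at state 4. -/
def kids4 : List (ℕ × ℕ × ℕ) := [(243, 407901468851537952, 0), (245, 407901468851536960, 0), (249, 407901468851473472, 0)]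

theorem chkA4 : allL (kidOK 12 [T5] T4) kids4 = true := by decide +kernel

theorem chkB4 : enumM 241 (fun c => bcond (consM 29 T4 c) (anyL (fun e => Nat.beq e.1 c) kids4) true) 12 (6 - 5) 241 = true := by decide +kernel

theorem chkC4 : fpop 241 = 5 := by decide +kernel

theorem bnd3 : allL (fun b => Nat.blt b (2 ^ 12)) T3 = true := by decide +kernel

/-- Forced steps from state 3. -/
def steps3 : List (ℕ × ℕ) := [(1039, 3087)]

theorem chk3 : fCheck 12 5 29 (6 - 5) (subL T4) steps3 T3 = true := by decide +kernel

theorem bnd2 : allL (fun b => Nat.blt b (2 ^ 12)) T2 = true := by decide +kernel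

/-- Cases at state 2. -/
def kids2 : List (ℕ × ℕ × ℕ) := [(783, 407901468851537952, 0), (1295, 406810753316784160, 0), (2319, 337004959092541472, 0)]

theorem chkA2 : allL (kidOK 12 [T3] T2) kids2 = true := by decide +kernel

theorem chkB2 : enumM 271 (fun c => bcond (consM 29 T2 c) (anyL (fun e => Nat.beq e.1 c) kids2) true) 12 (6 - 5) 271 = true := by decide +kernel

theorem chkC2 : fpop 271 = 5 := by decide +kernel

theorem bnd1 : allL (fun b => Nat.blt b (2 ^ 12)) T1 = true := by decide +kernel

/-- Cases at state 1. -/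
def kids1 : List (ℕ × ℕ × ℕ) := [(207, 407901468851537952, 0), (335, 407900403699648544, 0), (591, 407832233978726432, 0), (1103, 404560087374465056, 0), (2127, 264948498925979680, 0)]

theorem chkA1 : allL (kidOK 12 [T2] T1) kids1 = true := by decide +kernel

theorem chkB1 : enumM 79 (fun c => bcond (consM 29 T1 c) (anyL (fun e => Nat.beq e.1 c) kids1) true) 12 (6 - 5) 79 = true := by decide +kernel

theorem chkC1 : fpop 79 = 5 := by decide +kernel

theorem bnd0 : allL (fun b => Nat.blt b (2 ^ 12)) T0 = true := by decide +kernel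

/-- Cases at state 0. -/
def kids0 : List (ℕ × ℕ × ℕ) := [(63, 407901468851537952, 0), (95, 407901467811350560, 0), (159, 407901401239357472, 0), (287, 407898205783689248, 0), (543, 407761866341845024, 0), (1055, 402308288668076064, 0), (2079, 192890905995348000, 0)]

theorem chkA0 : allL (kidOK 12 [T1] T0) kids0 = true := by decide +kernel

theorem chkB0 : enumM 31 (fun c => bcond (consM 29 T0 c) (anyL (fun e => Nat.beq e.1 c) kids0) true) 12 (6 - 5) 31 = true := by decide +kernel

theorem chkC0 : fpop 31 = 5 := by decide +kernel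

section
variable {α : Type*} [Fintype α] [DecidableEq α] {B : Set (Finset α)}
  (hB : IsSteinerSystem 5 6 B) (hall : ∀ b ∈ B, ∀ c ∈ B, b ≠ c → tb 29 (b ∩ c).card = true)
include hB hall

theorem h152 : Holds 12 B blocks0 T152 := holds_self

theorem h132 : Holds 12 B blocks0 T132 :=
  holds_forced (by norm_num) hB hall (h152 hB hall) steps132 _ bnd132 chk132

theorem h72 : Holds 12 B blocks0 T72 :=
  holds_forced (by norm_num) hB hall (h132 hB hall) steps72 _ bnd72 chk72

theorem h71 : Holds 12 B blocks0 T71 :=
  holds_forced (by norm_num) hB hall (h72 hB hall) steps71 _ bnd71 chk71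

theorem h153 : Holds 12 B blocks0 T153 :=
  holds_branch (Ts := [T72]) (by norm_num) hB hall (by
    intro j hj
    simp only [List.length_cons, List.length_nil] at hj
    interval_cases j
    · exact h72 hB hall)
    bnd153 (by decide +kernel) chkC153 chkA153 chkB153

theorem h70 : Holds 12 B blocks0 T70 :=
  holds_branch (Ts := [T71, T153]) (by norm_num) hB hall (by
    intro j hj
    simp only [List.length_cons, List.length_nil] at hj
    interval_cases j
    · exact h71 hB hall
    · exact h153 hB hall)
    bnd70 (by decide +kernel) chkC70 chkA70 chkB70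

theorem h26 : Holds 12 B blocks0 T26 :=
  holds_branch (Ts := []) (by norm_num) hB hall (by intro j hj; simp at hj)
    bnd26 (by decide +kernel) chkC26 chkA26 chkB26

theorem h12 : Holds 12 B blocks0 T12 :=
  holds_forced (by norm_num) hB hall (h26 hB hall) steps12 _ bnd12 chk12

theorem h31 : Holds 12 B blocks0 T31 :=
  holds_forced (by norm_num) hB hall (h70 hB hall) steps31 _ bnd31 chk31

theorem h11 : Holds 12 B blocks0 T11 :=
  holds_branch (Ts := [T12]) (by norm_num) hB hall (by
    intro j hj
    simp only [List.length_cons, List.length_nil] at hj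
    interval_cases j
    · exact h12 hB hall)
    bnd11 (by decide +kernel) chkC11 chkA11 chkB11

theorem h30 : Holds 12 B blocks0 T30 :=
  holds_branch (Ts := [T31]) (by norm_num) hB hall (by
    intro j hj
    simp only [List.length_cons, List.length_nil] at hj
    interval_cases j
    · exact h31 hB hall)
    bnd30 (by decide +kernel) chkC30 chkA30 chkB30

theorem h10 : Holds 12 B blocks0 T10 :=
  holds_branch (Ts := [T11]) (by norm_num) hB hall (by
    intro j hj
    simp only [List.length_cons, List.length_nil] at hj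
    interval_cases j
    · exact h11 hB hall)
    bnd10 (by decide +kernel) chkC10 chkA10 chkB10

theorem h29 : Holds 12 B blocks0 T29 :=
  holds_forced (by norm_num) hB hall (h30 hB hall) steps29 _ bnd29 chk29

theorem h28 : Holds 12 B blocks0 T28 :=
  holds_branch (Ts := [T29]) (by norm_num) hB hall (by
    intro j hj
    simp only [List.length_cons, List.length_nil] at hj
    interval_cases j
    · exact h29 hB hall)
    bnd28 (by decide +kernel) chkC28 chkA28 chkB28

theorem h27 : Holds 12 B blocks0 T27 :=
  holds_forced (by norm_num) hB hall (h28 hB hall) steps27 _ bnd27 chk27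

theorem h7 : Holds 12 B blocks0 T7 :=
  holds_forced (by norm_num) hB hall (h10 hB hall) steps7 _ bnd7 chk7

theorem h6 : Holds 12 B blocks0 T6 :=
  holds_branch (Ts := [T7, T27]) (by norm_num) hB hall (by
    intro j hj
    simp only [List.length_cons, List.length_nil] at hj
    interval_cases j
    · exact h7 hB hall
    · exact h27 hB hall)
    bnd6 (by decide +kernel) chkC6 chkA6 chkB6

theorem h5 : Holds 12 B blocks0 T5 :=
  holds_forced (by norm_num) hB hall (h6 hB hall) steps5 _ bnd5 chk5

theorem h4 : Holds 12 B blocks0 T4 :=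
  holds_branch (Ts := [T5]) (by norm_num) hB hall (by
    intro j hj
    simp only [List.length_cons, List.length_nil] at hj
    interval_cases j
    · exact h5 hB hall)
    bnd4 (by decide +kernel) chkC4 chkA4 chkB4

theorem h3 : Holds 12 B blocks0 T3 :=
  holds_forced (by norm_num) hB hall (h4 hB hall) steps3 _ bnd3 chk3

theorem h2 : Holds 12 B blocks0 T2 :=
  holds_branch (Ts := [T3]) (by norm_num) hB hall (by
    intro j hj
    simp only [List.length_cons, List.length_nil] at hj
    interval_cases j
    · exact h3 hB hall)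
    bnd2 (by decide +kernel) chkC2 chkA2 chkB2

theorem h1 : Holds 12 B blocks0 T1 :=
  holds_branch (Ts := [T2]) (by norm_num) hB hall (by
    intro j hj
    simp only [List.length_cons, List.length_nil] at hj
    interval_cases j
    · exact h2 hB hall)
    bnd1 (by decide +kernel) chkC1 chkA1 chkB1

theorem h0 : Holds 12 B blocks0 T0 :=
  holds_branch (Ts := [T1]) (by norm_num) hB hall (by
    intro j hj
    simp only [List.length_cons, List.length_nil] at hj
    interval_cases j
    · exact h1 hB hall)
    bnd0 (by decide +kernel) chkC0 chkA0 chkB0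

/-- The standard blocks exist. -/
theorem hasStd (hα : Fintype.card α = 12) : HasStd 12 B blocks0 := by
  obtain ⟨E⟩ := exists_enc hα (by norm_num)
  exact h0 hB hall E (by simp [T0])

end

end Cfsg.Agent.Lib.Steiner.U12
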